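import Groth.Agent.FlatnB94.Scheme
import Groth.Agent.QCPull72.Sections
import Groth.Agent.QC70.Closure
import Groth.Agent.QC70.Coherent
import Mathlib.AlgebraicGeometry.Morphisms.Flat
import Mathlib.AlgebraicGeometry.Morphisms.Finite
import Mathlib.Algebra.Category.Ring.Constructions

/-!
# Modules finitely presented relative to a base: functoriality
-/

set_option autoImplicit false
set_option backward.isDefEq.respectTransparency.types false
set_option linter.style.haveILetI false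

noncomputable section

universe u

open CategoryTheory Limits AlgebraicGeometry TopologicalSpace Opposite TensorProduct

namespace Groth.Agent.FlatnB94

open Groth.Agent.QC70

/-- A relatively finitely presented module is finite. -/
theorem finite_of_rel {R S N : Type u} [CommRing R] [CommRing S] [Algebra R S] [AddCommGroup N]
    [Module S N] (h : FlatCA.RelFinitePresentation R S N) : Module.Finite S N := by
  obtain ⟨n, φ, -, hN⟩ := h
  letI : Algebra (MvPolynomial (Fin n) R) S := φ.toRingHom.toAlgebra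
  letI : Module (MvPolynomial (Fin n) R) N := Module.compHom N φ.toRingHom
  haveI : IsScalarTower (MvPolynomial (Fin n) R) S N :=
    IsScalarTower.of_algebraMap_smul fun _ _ => rfl
  haveI : Module.FinitePresentation (MvPolynomial (Fin n) R) N := hN
  exact Module.Finite.of_restrictScalars_finite (MvPolynomial (Fin n) R) S N

theorem isBaseChange_of_tensorEquiv {R T M N : Type u} [CommRing R] [CommRing T] [Algebra R T]
    [AddCommGroup M] [Module R M] [AddCommGroup N] [Module T N] [Module R N] [IsScalarTower R T N]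
    (e : N ≃ₗ[T] T ⊗[R] M) :
    IsBaseChange T (((e.symm.restrictScalars R).toLinearMap).comp (TensorProduct.mk R T M 1)) :=
  IsBaseChange.of_equiv e.symm fun _ => rfl

variable {X Y S : Scheme.{u}}

/-- The linear map on sections. -/
def appLin {M N : X.Modules} (φ : M ⟶ N) (U : X.Opens) : Γ(M, U) →ₗ[Γ(X, U)] Γ(N, U) where
  toFun := φ.app U
  map_add' := map_add _
  map_smul' r x := Scheme.Modules.Hom.app_smul φ r x

theorem isRelFP_push_iff (π : X ⟶ Y) (g : Y ⟶ S) [IsFinite π] [LocallyOfFiniteType g]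
    (F : X.Modules) [F.IsQuasicoherent] :
    Flatn.IsRelFP (π ≫ g) F ↔ Flatn.IsRelFP g ((Scheme.Modules.pushforward π).obj F) := by
  have key : ∀ (U : Y.Opens) (V : S.Opens) (h : U ≤ g ⁻¹ᵁ V), IsAffineOpen U → IsAffineOpen V →
      (RelOn (π ≫ g) F (π ⁻¹ᵁ U) V (fun _ hx => h hx) ↔
        RelOn g ((Scheme.Modules.pushforward π).obj F) U V h) := by
    intro U V h hU hV
    have h' : π ⁻¹ᵁ U ≤ (π ≫ g) ⁻¹ᵁ V := fun _ hx => h hx
    letI : Algebra Γ(S, V) Γ(Y, U) := (g.appLE V U h).hom.toAlgebra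
    letI : Algebra Γ(S, V) Γ(X, π ⁻¹ᵁ U) := ((π ≫ g).appLE V (π ⁻¹ᵁ U) h').hom.toAlgebra
    letI : Algebra Γ(Y, U) Γ(X, π ⁻¹ᵁ U) := (π.app U).hom.toAlgebra
    letI : Module Γ(Y, U) Γ(F, π ⁻¹ᵁ U) := Module.compHom _ (π.app U).hom
    haveI : IsScalarTower Γ(Y, U) Γ(X, π ⁻¹ᵁ U) Γ(F, π ⁻¹ᵁ U) :=
      IsScalarTower.of_algebraMap_smul fun _ _ => rfl
    haveI : IsScalarTower Γ(S, V) Γ(Y, U) Γ(X, π ⁻¹ᵁ U) :=
      IsScalarTower.of_algebraMap_eq' <| by
        rw [RingHom.algebraMap_toAlgebra, RingHom.algebraMap_toAlgebra,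
          RingHom.algebraMap_toAlgebra, ← CommRingCat.hom_comp, Scheme.Hom.app_eq_appLE,
          Scheme.Hom.appLE_comp_appLE]
    haveI : Module.Finite Γ(Y, U) Γ(X, π ⁻¹ᵁ U) := π.finite_app U hU
    haveI : Algebra.FiniteType Γ(S, V) Γ(Y, U) := g.finiteType_appLE hV hU h
    have key := rel_finite_iff (R := Γ(S, V)) (S := Γ(Y, U)) (T := Γ(X, π ⁻¹ᵁ U)) (M := Γ(F, π ⁻¹ᵁ U))
    exact key
  constructor
  · intro hF
    exact isRelFP_of_relOn g _ fun U V h hU hV =>
      (key U V h hU hV).mp (relOn_of_isRelFP (π ≫ g) F hF (hU.preimage π) hV _)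
  · intro hF
    refine isRelFP_of_forall (π ≫ g) F fun x => ?_
    obtain ⟨U, V, h, hU, hV, hx, hR⟩ := exists_pair g _ hF (π x)
    exact ⟨π ⁻¹ᵁ U, V, fun _ hy => h hy, hU.preimage π, hV, hx, (key U V h hU hV).mpr hR⟩

/-- Pulling back along a morphism locally of finite presentation. -/
theorem isRelFP_pullback (f : X ⟶ Y) (g : Y ⟶ S) [LocallyOfFinitePresentation f]
    [LocallyOfFiniteType g] (G : Y.Modules) [G.IsQuasicoherent] (hG : Flatn.IsRelFP g G) :
    Flatn.IsRelFP (f ≫ g) ((Scheme.Modules.pullback f).obj G) := by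
  haveI := QCPull72.isQuasicoherent_pullback f G
  refine isRelFP_of_forall (f ≫ g) _ fun x => ?_
  obtain ⟨V, U, hV, hU, hxU, eU⟩ := QCPull72.exists_affine_le g (f x)
  obtain ⟨_, ⟨W, hW, rfl⟩, hxW, eW⟩ :=
    X.isBasis_affineOpens.exists_subset_of_mem_open (show x ∈ f ⁻¹ᵁ U from hxU) (f ⁻¹ᵁ U).2
  have eW : W ≤ f ⁻¹ᵁ U := eW
  have h' : W ≤ (f ≫ g) ⁻¹ᵁ V := fun _ hy => eU (eW hy)
  refine ⟨W, V, h', hW, hV, hxW, ?_⟩
  letI : Algebra Γ(S, V) Γ(Y, U) := (g.appLE V U eU).hom.toAlgebra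
  letI : Algebra Γ(S, V) Γ(X, W) := ((f ≫ g).appLE V W h').hom.toAlgebra
  letI : Algebra Γ(Y, U) Γ(X, W) := (f.appLE U W eW).hom.toAlgebra
  haveI : IsScalarTower Γ(S, V) Γ(Y, U) Γ(X, W) := IsScalarTower.of_algebraMap_eq' <| by
    rw [RingHom.algebraMap_toAlgebra, RingHom.algebraMap_toAlgebra, RingHom.algebraMap_toAlgebra,
      ← CommRingCat.hom_comp, Scheme.Hom.appLE_comp_appLE]
  haveI : Algebra.FinitePresentation Γ(Y, U) Γ(X, W) := f.finitePresentation_appLE hU hW eW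
  letI : Module Γ(Y, U) Γ((Scheme.Modules.pullback f).obj G, W) :=
    Module.compHom _ (algebraMap Γ(Y, U) Γ(X, W))
  haveI : IsScalarTower Γ(Y, U) Γ(X, W) Γ((Scheme.Modules.pullback f).obj G, W) :=
    IsScalarTower.of_algebraMap_smul fun _ _ => rfl
  let e := QCPull72.sectionsPullbackEquiv f G hU hW eW
  exact rel_algebra_finitePresentation
    (((e.symm.restrictScalars Γ(Y, U)).toLinearMap).comp (TensorProduct.mk Γ(Y, U) Γ(X, W) _ 1))
    (isBaseChange_of_tensorEquiv e)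
    (relOn_of_isRelFP g G hG hU hV eU)

/-- Composing with a morphism locally of finite presentation. -/
theorem isRelFP_comp (f : X ⟶ Y) (g : Y ⟶ S) [LocallyOfFiniteType f]
    [LocallyOfFinitePresentation g] (F : X.Modules) [F.IsQuasicoherent]
    (hF : Flatn.IsRelFP f F) : Flatn.IsRelFP (f ≫ g) F := by
  refine isRelFP_of_forall (f ≫ g) _ fun x => ?_
  obtain ⟨V, U, hV, hU, hxU, eU⟩ := QCPull72.exists_affine_le g (f x)
  obtain ⟨_, ⟨W, hW, rfl⟩, hxW, eW⟩ :=
    X.isBasis_affineOpens.exists_subset_of_mem_open (show x ∈ f ⁻¹ᵁ U from hxU) (f ⁻¹ᵁ U).2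
  have eW : W ≤ f ⁻¹ᵁ U := eW
  have h' : W ≤ (f ≫ g) ⁻¹ᵁ V := fun _ hy => eU (eW hy)
  refine ⟨W, V, h', hW, hV, hxW, ?_⟩
  letI : Algebra Γ(S, V) Γ(Y, U) := (g.appLE V U eU).hom.toAlgebra
  letI : Algebra Γ(S, V) Γ(X, W) := ((f ≫ g).appLE V W h').hom.toAlgebra
  letI : Algebra Γ(Y, U) Γ(X, W) := (f.appLE U W eW).hom.toAlgebra
  haveI : IsScalarTower Γ(S, V) Γ(Y, U) Γ(X, W) := IsScalarTower.of_algebraMap_eq' <| by
    rw [RingHom.algebraMap_toAlgebra, RingHom.algebraMap_toAlgebra, RingHom.algebraMap_toAlgebra,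
      ← CommRingCat.hom_comp, Scheme.Hom.appLE_comp_appLE]
  haveI : Algebra.FinitePresentation Γ(S, V) Γ(Y, U) := g.finitePresentation_appLE hV hU eU
  haveI : Algebra.FiniteType Γ(S, V) Γ(X, W) := (f ≫ g).finiteType_appLE hV hW h'
  exact (rel_base_iff (R' := Γ(Y, U))).mpr (relOn_of_isRelFP f F hF hW hU eW)

/-- Stability under base change. -/
theorem isRelFP_baseChange {X' S' : Scheme.{u}} (f : X ⟶ S) [LocallyOfFiniteType f]
    (F : X.Modules) [F.IsQuasicoherent] (g : S' ⟶ S) (f' : X' ⟶ S') (g' : X' ⟶ X)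
    (hc : IsPullback g' f' f g) (hF : Flatn.IsRelFP f F) :
    Flatn.IsRelFP f' ((Scheme.Modules.pullback g').obj F) := by
  haveI := QCPull72.isQuasicoherent_pullback g' F
  haveI : LocallyOfFiniteType f' := MorphismProperty.of_isPullback hc.flip.flip inferInstance
  refine isRelFP_of_forall f' _ fun x => ?_
  obtain ⟨V, U, hV, hU, hxU, eU⟩ := QCPull72.exists_affine_le f (g' x)
  have hgx : g (f' x) ∈ V := by
    have := eU hxU
    rwa [show g (f' x) = f (g' x) from congr(($(hc.w.symm)) x)]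
  obtain ⟨_, ⟨V', hV', rfl⟩, hxV', eV'⟩ :=
    S'.isBasis_affineOpens.exists_subset_of_mem_open (show f' x ∈ g ⁻¹ᵁ V from hgx) (g ⁻¹ᵁ V).2
  have eV' : V' ≤ g ⁻¹ᵁ V := eV'
  let W := g' ⁻¹ᵁ U ⊓ f' ⁻¹ᵁ V'
  have hW : IsAffineOpen W := by
    have : IsAffine _ := hV
    have : IsAffine _ := hV'
    have : IsAffine _ := hU
    exact .of_isIso (Scheme.Hom.isPullback_resLE hc eV' eU rfl).isoPullback.hom
  have e₁ : W ≤ g' ⁻¹ᵁ U := inf_le_left
  have e₂ : W ≤ f' ⁻¹ᵁ V' := inf_le_right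
  refine ⟨W, V', e₂, hW, hV', ⟨hxU, hxV'⟩, ?_⟩
  letI : Algebra Γ(S, V) Γ(X, U) := (f.appLE V U eU).hom.toAlgebra
  letI : Algebra Γ(S, V) Γ(S', V') := (g.appLE V V' eV').hom.toAlgebra
  letI : Algebra Γ(S', V') Γ(X', W) := (f'.appLE V' W e₂).hom.toAlgebra
  letI : Algebra Γ(X, U) Γ(X', W) := (g'.appLE U W e₁).hom.toAlgebra
  letI : Algebra Γ(S, V) Γ(X', W) :=
    ((g' ≫ f).appLE V W (fun _ hy => eU (e₁ hy))).hom.toAlgebra
  haveI : IsScalarTower Γ(S, V) Γ(X, U) Γ(X', W) := IsScalarTower.of_algebraMap_eq' <| by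
    rw [RingHom.algebraMap_toAlgebra, RingHom.algebraMap_toAlgebra, RingHom.algebraMap_toAlgebra,
      ← CommRingCat.hom_comp, Scheme.Hom.appLE_comp_appLE]
  haveI : IsScalarTower Γ(S, V) Γ(S', V') Γ(X', W) := IsScalarTower.of_algebraMap_eq' <| by
    rw [RingHom.algebraMap_toAlgebra, RingHom.algebraMap_toAlgebra, RingHom.algebraMap_toAlgebra,
      ← CommRingCat.hom_comp, Scheme.Hom.appLE_comp_appLE]
    simp only [hc.w]
  haveI : Algebra.IsPushout Γ(S, V) Γ(S', V') Γ(X, U) Γ(X', W) :=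
    CommRingCat.isPushout_iff_isPushout.mp ((isIso_pushoutSection_iff hc eV' eU rfl).mp
      (isIso_pushoutSection_of_isAffineOpen hc eV' eU rfl hV hV' hU)).flip
  letI : Module Γ(X, U) Γ((Scheme.Modules.pullback g').obj F, W) :=
    Module.compHom _ (algebraMap Γ(X, U) Γ(X', W))
  haveI : IsScalarTower Γ(X, U) Γ(X', W) Γ((Scheme.Modules.pullback g').obj F, W) :=
    IsScalarTower.of_algebraMap_smul fun _ _ => rfl
  let e := QCPull72.sectionsPullbackEquiv g' F hU hW e₁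
  exact rel_baseChange
    (((e.symm.restrictScalars Γ(X, U)).toLinearMap).comp (TensorProduct.mk Γ(X, U) Γ(X', W) _ 1))
    (isBaseChange_of_tensorEquiv e)
    (relOn_of_isRelFP f F hF hU hV eU)

/-- An extension of relatively finitely presented modules. -/
theorem isRelFP_extension (f : X ⟶ S) [LocallyOfFiniteType f] (E : ShortComplex X.Modules)
    (hE : E.ShortExact) [E.X₁.IsQuasicoherent] [E.X₃.IsQuasicoherent]
    (h₁ : Flatn.IsRelFP f E.X₁) (h₃ : Flatn.IsRelFP f E.X₃) : Flatn.IsRelFP f E.X₂ := by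
  haveI := hE.mono_f
  refine isRelFP_of_relOn f _ fun U V h hU hV => ?_
  letI : Algebra Γ(S, V) Γ(X, U) := (f.appLE V U h).hom.toAlgebra
  refine rel_of_exact (appLin E.f U) (appLin E.g U) (app_injective_of_mono E.f U)
    (app_surjective_of_isAffineOpen E hE hU) ?_
    (relOn_of_isRelFP f _ h₁ hU hV h) (relOn_of_isRelFP f _ h₃ hU hV h)
  intro y
  refine ⟨exists_app_eq_of_exact E hE.exact U y, ?_⟩
  rintro ⟨z, rfl⟩
  exact app_f_g E U z

/-- The quotient by a submodule of finite type. -/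
theorem isRelFP_quotient (f : X ⟶ S) [LocallyOfFiniteType f] (E : ShortComplex X.Modules)
    (hE : E.ShortExact) [E.X₁.IsQuasicoherent] [E.X₁.IsFiniteType]
    (h₂ : Flatn.IsRelFP f E.X₂) : Flatn.IsRelFP f E.X₃ := by
  haveI := hE.mono_f
  refine isRelFP_imp f _ h₂ fun U V h hU _ hR => ?_
  letI : Algebra Γ(S, V) Γ(X, U) := (f.appLE V U h).hom.toAlgebra
  haveI := finite_sections_of_isFiniteType E.X₁ hU
  refine rel_of_surjective_fg (appLin E.g U) (app_surjective_of_isAffineOpen E hE hU) ?_ hR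
  have e : LinearMap.range (appLin E.f U) = LinearMap.ker (appLin E.g U) := le_antisymm
    (by rintro _ ⟨z, rfl⟩; exact app_f_g E U z) (fun y hy => exists_app_eq_of_exact E hE.exact U y hy)
  rw [← e, LinearMap.range_eq_map]
  exact Module.Finite.fg_top.map _

/-- A direct summand. -/
theorem isRelFP_fst (f : X ⟶ S) (F F' : X.Modules) (h : Flatn.IsRelFP f (F ⊞ F')) :
    Flatn.IsRelFP f F := by
  refine isRelFP_imp f _ h fun U V hUV hU _ hR => ?_
  letI : Algebra Γ(S, V) Γ(X, U) := (f.appLE V U hUV).hom.toAlgebra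
  let π : Γ(F ⊞ F', U) →ₗ[Γ(X, U)] Γ(F, U) := appLin biprod.fst U
  let ι' : Γ(F', U) →ₗ[Γ(X, U)] Γ(F ⊞ F', U) := appLin biprod.inr U
  let π' : Γ(F ⊞ F', U) →ₗ[Γ(X, U)] Γ(F', U) := appLin biprod.snd U
  have h0 : ∀ x : Γ(F', U), π (ι' x) = 0 := fun x =>
    congr((Scheme.Modules.Hom.app $(biprod.inr_fst (X := F) (Y := F')) U) x)
  have hker : LinearMap.ker π = LinearMap.range (ι'.comp π') := by
    refine le_antisymm ?_ ?_
    · intro y hy
      refine ⟨y, ?_⟩
      have e : y = appLin biprod.inl U (π y) + ι' (π' y) :=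
        (congr((Scheme.Modules.Hom.app $(biprod.total (X := F) (Y := F')) U) y)).symm
      rw [LinearMap.mem_ker.mp hy, map_zero, zero_add] at e
      exact e.symm
    · rintro _ ⟨y, rfl⟩
      exact h0 _
  haveI : Module.Finite Γ(X, U) Γ(F ⊞ F', U) := finite_of_rel hR
  refine rel_of_surjective_fg π (fun x => ⟨appLin biprod.inl U x,
    congr((Scheme.Modules.Hom.app $(biprod.inl_fst (X := F) (Y := F')) U) x)⟩) ?_ hR
  rw [hker, LinearMap.range_eq_map]
  exact Module.Finite.fg_top.map _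

theorem isRelFP_of_iso (f : X ⟶ S) {F F' : X.Modules} (e : F ≅ F') (h : Flatn.IsRelFP f F) :
    Flatn.IsRelFP f F' := by
  refine isRelFP_imp f _ h fun U V hUV _ _ hR => ?_
  letI : Algebra Γ(S, V) Γ(X, U) := (f.appLE V U hUV).hom.toAlgebra
  exact rel_congr (LinearEquiv.ofLinearMap (appLin e.hom U) (appLin e.inv U)
    (LinearMap.ext fun x => congr((Scheme.Modules.Hom.app $(e.inv_hom_id) U) x))
    (LinearMap.ext fun x => congr((Scheme.Modules.Hom.app $(e.hom_inv_id) U) x))) hR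

end Groth.Agent.FlatnB94
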