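import Groth.Prelude.Def_Flatn
import Mathlib.Algebra.Module.FinitePresentation
import Mathlib.RingTheory.Finiteness.ModuleFinitePresentation
import Mathlib.RingTheory.FinitePresentation
import Mathlib.RingTheory.FiniteStability
import Mathlib.RingTheory.Localization.BaseChange
import Mathlib.RingTheory.LocalProperties.FinitePresentation
import Mathlib.RingTheory.IsTensorProduct
import Mathlib.RingTheory.TensorProduct.MvPolynomial

/-!
# Modules finitely presented relative to a ring map: the algebra
-/

set_option autoImplicit false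
set_option linter.style.haveILetI false

universe u

open TensorProduct

namespace Groth.Agent.FlatnB94

/-- A module over `S` seen over `P` is finitely presented. -/
def FPOver {P S : Type u} [CommRing P] [CommRing S] (α : P →+* S) (N : Type u) [AddCommGroup N]
    [Module S N] : Prop :=
  letI : Module P N := Module.compHom N α
  Module.FinitePresentation P N

theorem fpOver_iff {P S N : Type u} [CommRing P] [CommRing S] [Algebra P S] [AddCommGroup N]
    [Module S N] [mP : Module P N] [IsScalarTower P S N] :
    FPOver (algebraMap P S) N ↔ Module.FinitePresentation P N := by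
  have h : Module.compHom N (algebraMap P S) = mP :=
    Module.ext' _ _ fun r n => algebraMap_smul S r n
  unfold FPOver
  rw [h]

/-- Finite presentation passes to a finite type algebra acting on the module. -/
theorem fp_of_finiteType {P Q N : Type u} [CommRing P] [CommRing Q] [Algebra P Q]
    [Algebra.FiniteType P Q] [AddCommGroup N] [Module P N] [Module Q N] [IsScalarTower P Q N]
    [Module.FinitePresentation P N] : Module.FinitePresentation Q N := by
  classical
  have : Module.FinitePresentation Q (Q ⊗[P] N) := inferInstance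
  obtain ⟨s, hs⟩ := Algebra.FiniteType.out (R := P) (A := Q)
  obtain ⟨t, ht⟩ := Module.Finite.fg_top (R := P) (M := N)
  let μ : Q ⊗[P] N →ₗ[Q] N :=
    AlgebraTensorModule.lift ((LinearMap.ringLmapEquivSelf Q Q (N →ₗ[P] N)).symm LinearMap.id)
  have hμ : ∀ (a : Q) (n : N), μ (a ⊗ₜ n) = a • n := fun a n => by simp [μ]
  refine Module.finitePresentation_of_surjective μ
    (fun n => ⟨1 ⊗ₜ n, by rw [hμ, one_smul]⟩) ?_
  let K : Submodule Q (Q ⊗[P] N) := Submodule.span Q
    ((s ×ˢ t).image fun p => p.1 ⊗ₜ[P] p.2 - (1 : Q) ⊗ₜ[P] (p.1 • p.2) : Finset _)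
  refine ⟨(s ×ˢ t).image fun p => p.1 ⊗ₜ[P] p.2 - (1 : Q) ⊗ₜ[P] (p.1 • p.2), le_antisymm ?_ ?_⟩
  · rw [Submodule.span_le]
    intro x hx
    obtain ⟨p, -, rfl⟩ := Finset.mem_image.mp hx
    simp [hμ]
  · have key : ∀ (a : Q) (n : N), a ⊗ₜ[P] n - (1 : Q) ⊗ₜ[P] (a • n) ∈ K := by
      have gen : ∀ a ∈ s, ∀ n : N, a ⊗ₜ[P] n - (1 : Q) ⊗ₜ[P] (a • n) ∈ K := by
        intro a ha n
        have hn : n ∈ Submodule.span P (t : Set N) := ht ▸ Submodule.mem_top
        induction hn using Submodule.span_induction with
        | mem n hn =>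
          exact Submodule.subset_span (Finset.mem_coe.mpr
            (Finset.mem_image.mpr ⟨(a, n), Finset.mem_product.mpr ⟨ha, hn⟩, rfl⟩))
        | zero => simp
        | add n n' _ _ h h' =>
          rw [smul_add, tmul_add, tmul_add, add_sub_add_comm]
          exact add_mem h h'
        | smul r n _ h =>
          have e : a ⊗ₜ[P] (r • n) - (1 : Q) ⊗ₜ[P] (a • r • n) =
              r • (a ⊗ₜ[P] n - (1 : Q) ⊗ₜ[P] (a • n)) := by
            rw [smul_comm a r n, tmul_smul, tmul_smul, smul_sub]
          rw [e]
          exact K.smul_of_tower_mem r h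
      intro a
      have ha : a ∈ Algebra.adjoin P (s : Set Q) := hs ▸ Algebra.mem_top
      induction ha using Algebra.adjoin_induction with
      | mem a ha => exact gen a ha
      | algebraMap r =>
        intro n
        rw [Algebra.algebraMap_eq_smul_one, smul_tmul, smul_assoc, one_smul, sub_self]
        exact zero_mem K
      | add a b _ _ ha hb =>
        intro n
        rw [add_smul, tmul_add, add_tmul, add_sub_add_comm]
        exact add_mem (ha n) (hb n)
      | mul a b _ _ ha hb =>
        intro n
        have : (a * b) ⊗ₜ[P] n - (1 : Q) ⊗ₜ[P] ((a * b) • n) =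
            a • (b ⊗ₜ[P] n - (1 : Q) ⊗ₜ[P] (b • n)) +
              (a ⊗ₜ[P] (b • n) - (1 : Q) ⊗ₜ[P] (a • (b • n))) := by
          rw [smul_sub, smul_tmul', smul_tmul', smul_eq_mul, smul_eq_mul, mul_one, mul_smul]
          abel
        rw [this]
        exact add_mem (K.smul_mem a (hb n)) (ha _)
    intro x hx
    have h1 : x - (1 : Q) ⊗ₜ[P] μ x ∈ K := by
      clear hx
      induction x using TensorProduct.induction_on with
      | zero => simp
      | tmul a n => rw [hμ]; exact key a n
      | add x y hx hy =>
        rw [map_add, tmul_add, add_sub_add_comm]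
        exact add_mem hx hy
    rwa [LinearMap.mem_ker.mp hx, tmul_zero, sub_zero] at h1

variable {R P Q S : Type u} [CommRing R] [CommRing P] [CommRing Q] [CommRing S]
  [Algebra R P] [Algebra R Q] [Algebra R S] {N : Type u} [AddCommGroup N] [Module S N]

theorem FPOver.comp_finiteType [Algebra.FiniteType R Q] {α : P →ₐ[R] S} {β : Q →ₐ[R] S}
    (φ : P →ₐ[R] Q) (hc : β.comp φ = α) (h : FPOver α.toRingHom N) : FPOver β.toRingHom N := by
  subst hc
  letI : Algebra P Q := φ.toRingHom.toAlgebra
  haveI : IsScalarTower R P Q := IsScalarTower.of_algebraMap_eq fun r => (φ.commutes r).symm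
  haveI : Algebra.FiniteType P Q := Algebra.FiniteType.of_restrictScalars_finiteType R P Q
  letI : Module Q N := Module.compHom N β.toRingHom
  letI : Module P N := Module.compHom N (β.comp φ).toRingHom
  haveI : IsScalarTower P Q N := IsScalarTower.of_algebraMap_smul fun _ _ => rfl
  haveI : Module.FinitePresentation P N := h
  exact fp_of_finiteType (P := P)

theorem FPOver.of_comp_surjective [Algebra.FinitePresentation R P] [Algebra.FinitePresentation R Q]
    {α : P →ₐ[R] S} {β : Q →ₐ[R] S} (φ : P →ₐ[R] Q) (hφ : Function.Surjective φ)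
    (hc : β.comp φ = α) (h : FPOver β.toRingHom N) : FPOver α.toRingHom N := by
  subst hc
  letI : Algebra P Q := φ.toRingHom.toAlgebra
  haveI : IsScalarTower R P Q := IsScalarTower.of_algebraMap_eq fun r => (φ.commutes r).symm
  haveI : Module.Finite P Q := Module.Finite.of_surjective (Algebra.linearMap P Q) hφ
  haveI : Algebra.FinitePresentation P Q :=
    Algebra.FinitePresentation.of_restrict_scalars_finitePresentation R P Q
  haveI : Module.FinitePresentation P Q :=
    Module.FinitePresentation.of_finite_of_finitePresentation P Q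
  letI : Module Q N := Module.compHom N β.toRingHom
  letI : Module P N := Module.compHom N (β.comp φ).toRingHom
  haveI : IsScalarTower P Q N := IsScalarTower.of_algebraMap_smul fun _ _ => rfl
  haveI : Module.FinitePresentation Q N := h
  exact Module.FinitePresentation.trans P N Q

/-- The notion does not depend on the finitely presented algebra mapping onto `S`. -/
theorem FPOver.of_surjective_pair [Algebra.FinitePresentation R P] [Algebra.FinitePresentation R Q]
    {α : P →ₐ[R] S} {β : Q →ₐ[R] S} (hβ : Function.Surjective β) (h : FPOver α.toRingHom N) :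
    FPOver β.toRingHom N := by
  obtain ⟨n, θ, hθ, -⟩ := Algebra.FinitePresentation.out (R := R) (A := P)
  have h1 : FPOver (α.comp θ).toRingHom N := h.of_comp_surjective θ hθ rfl
  let lft : MvPolynomial (Fin n) R →ₐ[R] Q :=
    MvPolynomial.aeval fun i => (hβ (α (θ (MvPolynomial.X i)))).choose
  refine h1.comp_finiteType lft (MvPolynomial.algHom_ext fun i => ?_)
  simp only [AlgHom.comp_apply, lft, MvPolynomial.aeval_X]
  exact (hβ (α (θ (MvPolynomial.X i)))).choose_spec

theorem relFinitePresentation_iff :
    FlatCA.RelFinitePresentation R S N ↔ ∃ (n : ℕ) (φ : MvPolynomial (Fin n) R →ₐ[R] S),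
      Function.Surjective φ ∧ FPOver φ.toRingHom N :=
  Iff.rfl

theorem rel_of_fpOver [Algebra.FinitePresentation R P] (α : P →ₐ[R] S) (hα : Function.Surjective α)
    (h : FPOver α.toRingHom N) : FlatCA.RelFinitePresentation R S N := by
  obtain ⟨n, θ, hθ, -⟩ := Algebra.FinitePresentation.out (R := R) (A := P)
  exact ⟨n, α.comp θ, hα.comp hθ, h.of_comp_surjective θ hθ rfl⟩

theorem fpOver_of_rel [Algebra.FinitePresentation R P] {α : P →ₐ[R] S} (hα : Function.Surjective α)
    (h : FlatCA.RelFinitePresentation R S N) : FPOver α.toRingHom N := by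
  obtain ⟨n, φ, -, hφ⟩ := h
  exact FPOver.of_surjective_pair hα hφ

theorem rel_congr {N' : Type u} [AddCommGroup N'] [Module S N'] (e : N ≃ₗ[S] N')
    (h : FlatCA.RelFinitePresentation R S N) : FlatCA.RelFinitePresentation R S N' := by
  obtain ⟨n, φ, hφ, hfp⟩ := h
  refine ⟨n, φ, hφ, ?_⟩
  letI : Module (MvPolynomial (Fin n) R) N := Module.compHom N φ.toRingHom
  letI : Module (MvPolynomial (Fin n) R) N' := Module.compHom N' φ.toRingHom
  haveI : Module.FinitePresentation (MvPolynomial (Fin n) R) N := hfp
  exact Module.FinitePresentation.of_equiv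
    { e.toAddEquiv with map_smul' := fun r x => e.map_smul (φ r) x }

section BaseRing

variable {R' : Type u} [CommRing R'] [Algebra R R'] [Algebra R' S] [IsScalarTower R R' S]
  [Algebra.FinitePresentation R R']

/-- Changing the base along a finitely presented algebra. -/
theorem rel_base_iff [Algebra.FiniteType R S] :
    FlatCA.RelFinitePresentation R S N ↔ FlatCA.RelFinitePresentation R' S N := by
  constructor
  · intro h
    haveI : Algebra.FiniteType R' S := Algebra.FiniteType.of_restrictScalars_finiteType R R' S
    obtain ⟨n, φ, hφ⟩ := Algebra.FiniteType.iff_quotient_mvPolynomial''.mp ‹Algebra.FiniteType R' S›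
    haveI : Algebra.FinitePresentation R (MvPolynomial (Fin n) R') :=
      Algebra.FinitePresentation.trans R R' _
    exact ⟨n, φ, hφ, fpOver_of_rel (α := φ.restrictScalars R) hφ h⟩
  · rintro ⟨n, φ, hφ, h⟩
    haveI : Algebra.FinitePresentation R (MvPolynomial (Fin n) R') :=
      Algebra.FinitePresentation.trans R R' _
    exact rel_of_fpOver (φ.restrictScalars R) hφ h

end BaseRing

/-- Base change of finite presentation along a pushout square `P → Q`, `S → S'`. -/
theorem FPOver.baseChange {P Q S S' N N' : Type u} [CommRing P] [CommRing Q] [CommRing S]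
    [CommRing S'] [Algebra P Q] [Algebra P S] [Algebra Q S'] [Algebra S S'] [Algebra P S']
    [IsScalarTower P Q S'] [IsScalarTower P S S'] [Algebra.IsPushout P Q S S']
    [AddCommGroup N] [Module S N] [AddCommGroup N'] [Module S' N'] [Module S N']
    [IsScalarTower S S' N'] (f : N →ₗ[S] N') (hf : IsBaseChange S' f)
    (h : FPOver (algebraMap P S) N) : FPOver (algebraMap Q S') N' := by
  letI : Module P N := Module.compHom N (algebraMap P S)
  haveI : IsScalarTower P S N := IsScalarTower.of_algebraMap_smul fun _ _ => rfl
  letI : Module Q N' := Module.compHom N' (algebraMap Q S')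
  haveI : IsScalarTower Q S' N' := IsScalarTower.of_algebraMap_smul fun _ _ => rfl
  haveI : Module.FinitePresentation P N := h
  haveI : Module.FinitePresentation Q (Q ⊗[P] N) := inferInstance
  exact Module.FinitePresentation.of_equiv
    ((Algebra.IsPushout.cancelBaseChange P Q S S' N).symm ≪≫ₗ hf.equiv.restrictScalars Q)

/-- Localisation of a relatively finitely presented module. -/
theorem rel_localization {S' N' : Type u} [CommRing S'] [Algebra R S'] [Algebra S S']
    [IsScalarTower R S S'] (g : S) [IsLocalization.Away g S'] [AddCommGroup N'] [Module S' N']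
    [Module S N'] [IsScalarTower S S' N'] (f : N →ₗ[S] N')
    [IsLocalizedModule (Submonoid.powers g) f] (h : FlatCA.RelFinitePresentation R S N) :
    FlatCA.RelFinitePresentation R S' N' := by
  obtain ⟨n, φ, hφ, hfp⟩ := h
  obtain ⟨g', rfl⟩ := hφ g
  letI : Algebra (MvPolynomial (Fin n) R) S := φ.toRingHom.toAlgebra
  letI : Algebra (MvPolynomial (Fin n) R) S' :=
    ((algebraMap S S').comp φ.toRingHom).toAlgebra
  haveI : IsScalarTower (MvPolynomial (Fin n) R) S S' := IsScalarTower.of_algebraMap_eq fun _ => rfl
  haveI hR : IsScalarTower R (MvPolynomial (Fin n) R) S' := IsScalarTower.of_algebraMap_eq fun r => by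
    rw [RingHom.algebraMap_toAlgebra, RingHom.comp_apply, IsScalarTower.algebraMap_apply R S S' r]
    exact congrArg _ (φ.commutes r).symm
  let Q := Localization.Away g'
  have hsub : Algebra.algebraMapSubmonoid S (Submonoid.powers g') = Submonoid.powers (φ g') :=
    Submonoid.map_powers _ g'
  haveI hloc : IsLocalization (Algebra.algebraMapSubmonoid S (Submonoid.powers g')) S' := by
    rw [hsub]; infer_instance
  letI : Algebra Q S' :=
    (IsLocalization.map (T := Algebra.algebraMapSubmonoid S (Submonoid.powers g')) S'
      (algebraMap (MvPolynomial (Fin n) R) S) (Submonoid.le_comap_map _) : Q →+* S').toAlgebra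
  haveI : IsScalarTower (MvPolynomial (Fin n) R) Q S' :=
    IsScalarTower.of_algebraMap_eq fun x =>
      (IsLocalization.map_eq (T := Algebra.algebraMapSubmonoid S (Submonoid.powers g'))
        (Submonoid.le_comap_map _) x).symm
  haveI : Algebra.IsPushout (MvPolynomial (Fin n) R) Q S S' :=
    ((Algebra.isLocalization_iff_isPushout (T := S) (B := S') (Submonoid.powers g') Q).mp hloc).symm
  haveI : Algebra.FinitePresentation (MvPolynomial (Fin n) R) Q :=
    IsLocalization.Away.finitePresentation g'
  haveI : Algebra.FinitePresentation R Q :=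
    Algebra.FinitePresentation.trans R (MvPolynomial (Fin n) R) Q
  haveI : IsScalarTower R Q S' := IsScalarTower.of_algebraMap_eq fun r => by
    rw [IsScalarTower.algebraMap_apply R (MvPolynomial (Fin n) R) Q,
      ← IsScalarTower.algebraMap_apply (MvPolynomial (Fin n) R) Q S',
      ← IsScalarTower.algebraMap_apply R (MvPolynomial (Fin n) R) S']
  refine rel_of_fpOver (IsScalarTower.toAlgHom R Q S') ?_ ?_
  · intro z
    obtain ⟨⟨a, b, hb⟩, hz⟩ := IsLocalization.surj (Submonoid.powers (φ g')) z
    obtain ⟨m, rfl⟩ := hb
    obtain ⟨a', rfl⟩ := hφ a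
    refine ⟨IsLocalization.mk' Q a' (⟨g' ^ m, m, rfl⟩ : Submonoid.powers g'), ?_⟩
    have hu : IsUnit (algebraMap S S' (φ g' ^ m)) :=
      IsLocalization.map_units S' (⟨φ g' ^ m, m, rfl⟩ : Submonoid.powers (φ g'))
    refine hu.mul_left_injective ?_
    have h2 := congrArg (algebraMap Q S')
      (IsLocalization.mk'_spec Q a' (⟨g' ^ m, m, rfl⟩ : Submonoid.powers g'))
    rw [map_mul, ← IsScalarTower.algebraMap_apply, ← IsScalarTower.algebraMap_apply] at h2
    change algebraMap Q S' _ * algebraMap S S' (φ g' ^ m) = z * _
    rw [hz]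
    refine Eq.trans ?_ h2
    rw [← map_pow]
    rfl
  · exact FPOver.baseChange (P := MvPolynomial (Fin n) R) (Q := Q) f
      (IsLocalizedModule.isBaseChange (Submonoid.powers (φ g')) S' f) hfp

/-- Relative finite presentation is local for a covering by standard opens. -/
theorem rel_of_span [Algebra.FiniteType R S] (s : Set S) (hs : Ideal.span s = ⊤)
    {Sg : s → Type u} [∀ g, CommRing (Sg g)] [∀ g, Algebra R (Sg g)] [∀ g, Algebra S (Sg g)]
    [∀ g, IsScalarTower R S (Sg g)] [∀ g : s, IsLocalization.Away g.1 (Sg g)]
    {Ng : s → Type u} [∀ g, AddCommGroup (Ng g)] [∀ g, Module (Sg g) (Ng g)] [∀ g, Module S (Ng g)]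
    [∀ g, IsScalarTower S (Sg g) (Ng g)] (f : ∀ g, N →ₗ[S] Ng g)
    [∀ g : s, IsLocalizedModule (Submonoid.powers g.1) (f g)]
    (h : ∀ g, FlatCA.RelFinitePresentation R (Sg g) (Ng g)) :
    FlatCA.RelFinitePresentation R S N := by
  classical
  obtain ⟨n, φ, hφ⟩ := Algebra.FiniteType.iff_quotient_mvPolynomial''.mp ‹Algebra.FiniteType R S›
  obtain ⟨c, hc⟩ := (Finsupp.mem_span_iff_linearCombination S s 1).mp (by rw [show Submodule.span S s = ⊤ from hs]; trivial)
  rw [Finsupp.linearCombination_apply, Finsupp.sum] at hc
  choose σ hσ using hφ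
  let u : MvPolynomial (Fin n) R := ∑ g ∈ c.support, σ (c g) * σ g.1
  have hu : φ u = 1 := by
    simp only [u, map_sum, map_mul, hσ]
    simpa only [smul_eq_mul] using hc
  let P := Localization.Away u
  letI : Algebra (MvPolynomial (Fin n) R) S := φ.toRingHom.toAlgebra
  haveI : IsScalarTower R (MvPolynomial (Fin n) R) S :=
    IsScalarTower.of_algebraMap_eq fun r => (φ.commutes r).symm
  let ψ : P →+* S := IsLocalization.Away.lift u (g := φ.toRingHom)
    (show IsUnit (φ u) from hu ▸ isUnit_one)
  have hψ : ∀ p, ψ (algebraMap _ P p) = φ p := fun p => IsLocalization.Away.lift_eq u _ p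
  letI : Algebra P S := ψ.toAlgebra
  haveI : IsScalarTower R P S := IsScalarTower.of_algebraMap_eq fun r => by
    rw [IsScalarTower.algebraMap_apply R (MvPolynomial (Fin n) R) P]
    exact ((hψ _).trans (φ.commutes r)).symm
  haveI : Algebra.FinitePresentation (MvPolynomial (Fin n) R) P :=
    IsLocalization.Away.finitePresentation u
  haveI : Algebra.FinitePresentation R P :=
    Algebra.FinitePresentation.trans R (MvPolynomial (Fin n) R) P
  have hsurj : Function.Surjective (algebraMap P S) :=
    fun x => ⟨algebraMap _ P (σ x), (hψ _).trans (hσ x)⟩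
  refine rel_of_fpOver (IsScalarTower.toAlgHom R P S) hsurj ?_
  letI : Module P N := Module.compHom N ψ
  haveI : IsScalarTower P S N := IsScalarTower.of_algebraMap_smul fun _ _ => rfl
  refine fpOver_iff.mpr ?_
  let lift : s → P := fun g => algebraMap _ P (σ g.1)
  have hlift : ∀ g, algebraMap P S (lift g) = g.1 := fun g => (hψ _).trans (hσ _)
  have hspan : Ideal.span (Set.range lift) = ⊤ := by
    refine Ideal.eq_top_of_isUnit_mem _ ?_ (IsLocalization.Away.algebraMap_isUnit (S := P) u)
    rw [map_sum]
    refine Ideal.sum_mem _ fun g _ => ?_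
    rw [map_mul]
    exact Ideal.mul_mem_left _ _ (Ideal.subset_span ⟨g, rfl⟩)
  have hinj : Function.Injective lift := fun g g' e =>
    Subtype.ext ((hlift g).symm.trans ((congrArg _ e).trans (hlift g')))
  let e := Equiv.ofInjective lift hinj
  refine Module.FinitePresentation.of_localizationSpan (Set.range lift) hspan fun r => ?_
  obtain ⟨g, rfl⟩ : ∃ g, e g = r := ⟨e.symm r, e.apply_symm_apply r⟩
  letI : Algebra P (Sg g) := ((algebraMap S (Sg g)).comp ψ).toAlgebra
  haveI : IsScalarTower P S (Sg g) := IsScalarTower.of_algebraMap_eq fun _ => rfl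
  let Q := Localization.Away (lift g)
  have hsub : Algebra.algebraMapSubmonoid S (Submonoid.powers (lift g)) = Submonoid.powers g.1 := by
    rw [Algebra.algebraMapSubmonoid, Submonoid.map_powers, hlift]
  haveI hloc : IsLocalization (Algebra.algebraMapSubmonoid S (Submonoid.powers (lift g))) (Sg g) := by
    rw [hsub]; infer_instance
  letI : Algebra Q (Sg g) :=
    (IsLocalization.map (T := Algebra.algebraMapSubmonoid S (Submonoid.powers (lift g))) (Sg g)
      (algebraMap P S) (Submonoid.le_comap_map _) : Q →+* Sg g).toAlgebra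
  haveI : @IsScalarTower P Q (Sg g) Algebra.toSMul Algebra.toSMul Algebra.toSMul := IsScalarTower.of_algebraMap_eq fun x =>
    (IsLocalization.map_eq (T := Algebra.algebraMapSubmonoid S (Submonoid.powers (lift g)))
      (Submonoid.le_comap_map _) x).symm
  haveI : Algebra.FinitePresentation P Q := IsLocalization.Away.finitePresentation (lift g)
  haveI : Algebra.FinitePresentation R Q := Algebra.FinitePresentation.trans R P Q
  haveI : @IsScalarTower R Q (Sg g) Algebra.toSMul Algebra.toSMul Algebra.toSMul :=
    IsScalarTower.of_algebraMap_eq (R := R) (S := Q) (A := Sg g) fun r => by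
    rw [IsScalarTower.algebraMap_apply R S (Sg g), IsScalarTower.algebraMap_apply R P S,
      ← IsScalarTower.algebraMap_apply P S (Sg g), IsScalarTower.algebraMap_apply P Q (Sg g)]
    rfl
  have hQ : Function.Surjective (algebraMap Q (Sg g)) := by
    intro z
    obtain ⟨⟨a, b, hb⟩, hz⟩ := IsLocalization.surj (Submonoid.powers g.1) z
    obtain ⟨m, rfl⟩ := hb
    obtain ⟨a', rfl⟩ := hsurj a
    refine ⟨IsLocalization.mk' Q a' (⟨lift g ^ m, m, rfl⟩ : Submonoid.powers (lift g)), ?_⟩
    have h1 : IsUnit (algebraMap S (Sg g) (g.1 ^ m)) :=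
      IsLocalization.map_units (Sg g) (⟨g.1 ^ m, m, rfl⟩ : Submonoid.powers g.1)
    refine h1.mul_left_injective ?_
    have h2 := congrArg (algebraMap Q (Sg g))
      (IsLocalization.mk'_spec Q a' (⟨lift g ^ m, m, rfl⟩ : Submonoid.powers (lift g)))
    rw [map_mul, ← IsScalarTower.algebraMap_apply, ← IsScalarTower.algebraMap_apply,
      IsScalarTower.algebraMap_apply P S (Sg g) (lift g ^ m), map_pow (algebraMap P S), hlift,
      IsScalarTower.algebraMap_apply P S (Sg g) a'] at h2
    exact h2.trans hz.symm
  have hQfp : FPOver (algebraMap Q (Sg g)) (Ng g) :=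
    fpOver_of_rel (α := IsScalarTower.toAlgHom R Q (Sg g)) hQ (h g)
  letI : Module Q (Ng g) := Module.compHom (Ng g) (algebraMap Q (Sg g))
  haveI : IsScalarTower Q (Sg g) (Ng g) := IsScalarTower.of_algebraMap_smul fun _ _ => rfl
  letI : Module P (Ng g) := Module.compHom (Ng g) (algebraMap P (Sg g))
  haveI : IsScalarTower P (Sg g) (Ng g) := IsScalarTower.of_algebraMap_smul fun _ _ => rfl
  haveI : IsScalarTower P S (Ng g) := IsScalarTower.of_algebraMap_smul fun p x => by
    rw [← algebraMap_smul (Sg g) (algebraMap P S p), ← IsScalarTower.algebraMap_apply]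
    exact algebraMap_smul (Sg g) p x
  haveI : @IsScalarTower P Q (Ng g) Algebra.toSMul _ _ := IsScalarTower.of_algebraMap_smul fun (p : P) (x : Ng g) => by
    exact (algebraMap_smul (Sg g) (algebraMap P Q p) x).symm.trans
      ((congrArg (fun z : Sg g => z • x) (IsScalarTower.algebraMap_apply P Q (Sg g) p).symm).trans
        (algebraMap_smul (Sg g) p x))
  haveI : IsLocalizedModule (Algebra.algebraMapSubmonoid S (Submonoid.powers (lift g))) (f g) := by
    rw [hsub]; infer_instance
  haveI : IsLocalizedModule (Submonoid.powers (lift g)) ((f g).restrictScalars P) :=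
    IsLocalizedModule.restrictScalars (Submonoid.powers (lift g)) (f g)
  haveI : Module.FinitePresentation Q (Ng g) := fpOver_iff.mp hQfp
  change Module.FinitePresentation (Localization.Away (lift g)) (LocalizedModule.Away (lift g) N)
  exact Module.FinitePresentation.of_equiv
    (((IsLocalizedModule.iso (Submonoid.powers (lift g)) ((f g).restrictScalars P)).symm)
      |>.extendScalarsOfIsLocalization (Submonoid.powers (lift g)) Q)

section BaseChange

attribute [local instance] MvPolynomial.algebraMvPolynomial

/-- Relative finite presentation is stable under base change. -/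
theorem rel_baseChange {R' S' N' : Type u} [CommRing R'] [CommRing S'] [Algebra R R']
    [Algebra R' S'] [Algebra S S'] [Algebra R S'] [IsScalarTower R R' S'] [IsScalarTower R S S']
    [Algebra.IsPushout R R' S S'] [AddCommGroup N'] [Module S' N'] [Module S N']
    [IsScalarTower S S' N'] (f : N →ₗ[S] N') (hf : IsBaseChange S' f)
    (h : FlatCA.RelFinitePresentation R S N) : FlatCA.RelFinitePresentation R' S' N' := by
  obtain ⟨n, φ, hφ, hfp⟩ := h
  let P := MvPolynomial (Fin n) R
  let P' := MvPolynomial (Fin n) R'
  let φ' : P' →ₐ[R'] S' := MvPolynomial.aeval fun i => algebraMap S S' (φ (MvPolynomial.X i))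
  letI : Algebra P S := φ.toRingHom.toAlgebra
  letI : Algebra P' S' := φ'.toRingHom.toAlgebra
  letI : Algebra P S' := ((algebraMap S S').comp φ.toRingHom).toAlgebra
  haveI : IsScalarTower P S S' := IsScalarTower.of_algebraMap_eq fun _ => rfl
  haveI : IsScalarTower R P S := IsScalarTower.of_algebraMap_eq fun r => (φ.commutes r).symm
  haveI : IsScalarTower R' P' S' := IsScalarTower.of_algebraMap_eq fun r => (φ'.commutes r).symm
  haveI : IsScalarTower R P S' := IsScalarTower.of_algebraMap_eq fun r => by
    rw [IsScalarTower.algebraMap_apply R S S' r, IsScalarTower.algebraMap_apply R P S r]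
    rfl
  have hPP : (algebraMap P' S').comp (algebraMap P P') = algebraMap P S' := by
    refine MvPolynomial.ringHom_ext (fun r => ?_) (fun i => ?_)
    · change φ' (MvPolynomial.map (algebraMap R R') (MvPolynomial.C r)) = _
      rw [MvPolynomial.map_C, MvPolynomial.aeval_C, ← IsScalarTower.algebraMap_apply,
        IsScalarTower.algebraMap_apply R P S']
      rfl
    · change φ' (MvPolynomial.map (algebraMap R R') (MvPolynomial.X i)) = _
      rw [MvPolynomial.map_X, MvPolynomial.aeval_X]
      rfl
  haveI : IsScalarTower P P' S' := IsScalarTower.of_algebraMap_eq' hPP.symm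
  haveI : IsScalarTower R P' S' := IsScalarTower.of_algebraMap_eq fun r => by
    rw [IsScalarTower.algebraMap_apply R R' P', ← IsScalarTower.algebraMap_apply R' P' S',
      ← IsScalarTower.algebraMap_apply R R' S']
  haveI : Algebra.IsPushout R P R' P' := Algebra.IsPushout.symm inferInstance
  haveI : Algebra.IsPushout R S R' S' := Algebra.IsPushout.symm inferInstance
  haveI : Algebra.IsPushout P P' S S' :=
    ((Algebra.IsPushout.comp_iff R P R' P' (T := S) (T' := S')).mp inferInstance).symm
  refine ⟨n, φ', ?_, FPOver.baseChange (P := P) (Q := P') f hf hfp⟩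
  have : Function.Surjective (Algebra.TensorProduct.map (AlgHom.id R' R') φ :
      R' ⊗[R] P →ₐ[R'] R' ⊗[R] S) := LinearMap.lTensor_surjective _ hφ
  intro z
  haveI : Algebra.IsPushout R R' S S' := Algebra.IsPushout.symm inferInstance
  obtain ⟨w, rfl⟩ := (Algebra.IsPushout.equiv R R' S S').surjective z
  induction w using TensorProduct.induction_on with
  | zero => exact ⟨0, by simp⟩
  | tmul a x =>
    obtain ⟨x, rfl⟩ := hφ x
    refine ⟨algebraMap R' P' a * algebraMap P P' x, ?_⟩
    rw [Algebra.IsPushout.equiv_tmul, map_mul]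
    congr 1
    · exact φ'.commutes a
    · exact DFunLike.congr_fun hPP x
  | add x y hx hy =>
    obtain ⟨a, ha⟩ := hx
    obtain ⟨b, hb⟩ := hy
    exact ⟨a + b, by rw [map_add, map_add, ha, hb]⟩

/-- Adding variables. -/
theorem rel_mvPolynomial {m : ℕ} {S' N' : Type u} [CommRing S'] [Algebra S S'] [Algebra R S']
    [IsScalarTower R S S'] (e : MvPolynomial (Fin m) S ≃ₐ[S] S') [AddCommGroup N'] [Module S' N']
    [Module S N'] [IsScalarTower S S' N'] (f : N →ₗ[S] N') (hf : IsBaseChange S' f)
    (h : FlatCA.RelFinitePresentation R S N) : FlatCA.RelFinitePresentation R S' N' := by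
  obtain ⟨n, φ, hφ, hfp⟩ := h
  let P := MvPolynomial (Fin n) R
  let P' := MvPolynomial (Fin m) P
  haveI : Algebra.FinitePresentation R P' := Algebra.FinitePresentation.trans R P P'
  letI : Algebra P S := φ.toRingHom.toAlgebra
  letI : Algebra P S' := ((algebraMap S S').comp φ.toRingHom).toAlgebra
  haveI : IsScalarTower P S S' := IsScalarTower.of_algebraMap_eq fun _ => rfl
  letI : Algebra P' S' := ((e : MvPolynomial (Fin m) S →+* S').comp
    (MvPolynomial.map φ.toRingHom)).toAlgebra
  haveI : IsScalarTower P P' S' := IsScalarTower.of_algebraMap_eq fun x => by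
    change _ = e (MvPolynomial.map φ.toRingHom (MvPolynomial.C x))
    rw [MvPolynomial.map_C]
    exact (e.commutes (φ x)).symm
  haveI : Algebra.IsPushout P S P' (MvPolynomial (Fin m) S) := inferInstance
  haveI : Algebra.IsPushout P S P' S' := Algebra.IsPushout.of_equiv e (RingHom.ext fun _ => rfl)
  haveI : Algebra.IsPushout P P' S S' := Algebra.IsPushout.symm inferInstance
  let ψ : P' →ₐ[R] S' :=
    { algebraMap P' S' with
      commutes' := fun r => by
        change algebraMap P' S' (algebraMap R P' r) = _
        rw [IsScalarTower.algebraMap_apply R P P', ← IsScalarTower.algebraMap_apply P P' S',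
          IsScalarTower.algebraMap_apply R S S']
        exact congrArg _ (φ.commutes r) }
  refine rel_of_fpOver ψ ?_ (FPOver.baseChange (P := P) (Q := P') f hf hfp)
  exact e.surjective.comp (MvPolynomial.map_surjective _ hφ)

end BaseChange

/-- A quotient by a finitely generated submodule. -/
theorem rel_of_surjective_fg {N' : Type u} [AddCommGroup N'] [Module S N'] (f : N →ₗ[S] N')
    (hf : Function.Surjective f) (hker : (LinearMap.ker f).FG)
    (h : FlatCA.RelFinitePresentation R S N) : FlatCA.RelFinitePresentation R S N' := by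
  obtain ⟨n, φ, hφ, hfp⟩ := h
  refine ⟨n, φ, hφ, ?_⟩
  let P := MvPolynomial (Fin n) R
  letI : Algebra P S := φ.toRingHom.toAlgebra
  letI : Module P N := Module.compHom N φ.toRingHom
  haveI : IsScalarTower P S N := IsScalarTower.of_algebraMap_smul fun _ _ => rfl
  letI : Module P N' := Module.compHom N' φ.toRingHom
  haveI : IsScalarTower P S N' := IsScalarTower.of_algebraMap_smul fun _ _ => rfl
  haveI : Module.Finite P S := Module.Finite.of_surjective (Algebra.linearMap P S) hφ
  haveI : Module.FinitePresentation P N := hfp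
  refine Module.finitePresentation_of_surjective (f.restrictScalars P) hf ?_
  rw [LinearMap.ker_restrictScalars]
  exact hker.restrictScalars_of_surjective hφ

/-- An extension. -/
theorem rel_of_exact {N₁ N₃ : Type u} [AddCommGroup N₁] [Module S N₁] [AddCommGroup N₃] [Module S N₃]
    (f : N₁ →ₗ[S] N) (g : N →ₗ[S] N₃) (hf : Function.Injective f) (hg : Function.Surjective g)
    (he : Function.Exact f g) (h₁ : FlatCA.RelFinitePresentation R S N₁)
    (h₃ : FlatCA.RelFinitePresentation R S N₃) : FlatCA.RelFinitePresentation R S N := by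
  obtain ⟨n, φ, hφ, hfp⟩ := h₁
  refine ⟨n, φ, hφ, ?_⟩
  have h3 : FPOver φ.toRingHom N₃ := fpOver_of_rel hφ h₃
  let P := MvPolynomial (Fin n) R
  letI : Algebra P S := φ.toRingHom.toAlgebra
  letI : Module P N := Module.compHom N φ.toRingHom
  haveI : IsScalarTower P S N := IsScalarTower.of_algebraMap_smul fun _ _ => rfl
  letI : Module P N₁ := Module.compHom N₁ φ.toRingHom
  haveI : IsScalarTower P S N₁ := IsScalarTower.of_algebraMap_smul fun _ _ => rfl
  letI : Module P N₃ := Module.compHom N₃ φ.toRingHom
  haveI : IsScalarTower P S N₃ := IsScalarTower.of_algebraMap_smul fun _ _ => rfl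
  haveI : Module.FinitePresentation P N₁ := hfp
  haveI : Module.FinitePresentation P N₃ := h3
  haveI : Module.FinitePresentation P (LinearMap.ker (g.restrictScalars P)) := by
    have e : LinearMap.range (f.restrictScalars P) = LinearMap.ker (g.restrictScalars P) :=
      (LinearMap.exact_iff.mp (show Function.Exact (f.restrictScalars P) (g.restrictScalars P) from he)).symm
    exact Module.FinitePresentation.of_equiv
      ((LinearEquiv.ofInjective (f.restrictScalars P) hf).trans (LinearEquiv.ofEq _ _ e))
  exact Module.finitePresentation_of_ker (g.restrictScalars P) hg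

/-- Base change along a finitely presented algebra `S → T`. -/
theorem rel_algebra_finitePresentation {T NT : Type u} [CommRing T] [Algebra S T] [Algebra R T]
    [IsScalarTower R S T] [Algebra.FinitePresentation S T] [AddCommGroup NT] [Module T NT]
    [Module S NT] [IsScalarTower S T NT] (f : N →ₗ[S] NT) (hf : IsBaseChange T f)
    (h : FlatCA.RelFinitePresentation R S N) : FlatCA.RelFinitePresentation R T NT := by
  obtain ⟨m, θ, hθ, hker⟩ := Algebra.FinitePresentation.out (R := S) (A := T)
  let W := MvPolynomial (Fin m) S
  let N₀ := W ⊗[S] N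
  have h₀ : FlatCA.RelFinitePresentation R W N₀ :=
    rel_mvPolynomial AlgEquiv.refl (TensorProduct.mk S W N 1) (TensorProduct.isBaseChange S N W) h
  letI : Algebra W T := θ.toRingHom.toAlgebra
  haveI : IsScalarTower S W T := IsScalarTower.of_algebraMap_eq fun s => (θ.commutes s).symm
  letI : Module W NT := Module.compHom NT θ.toRingHom
  haveI : IsScalarTower W T NT := IsScalarTower.of_algebraMap_smul fun _ _ => rfl
  haveI : IsScalarTower S W NT := IsScalarTower.of_algebraMap_smul fun s x => by
    change θ (algebraMap S W s) • x = s • x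
    rw [θ.commutes, algebraMap_smul]
  let g : N₀ →ₗ[W] NT := (TensorProduct.isBaseChange S N W).lift f
  have hg : ∀ (w : W) (x : N), g (w ⊗ₜ x) = w • f x := fun w x => by
    rw [show w ⊗ₜ[S] x = w • (TensorProduct.mk S W N 1 x) from by simp [TensorProduct.smul_tmul'],
      g.map_smul, (TensorProduct.isBaseChange S N W).lift_eq]
  have hgsurj : Function.Surjective g := by
    intro y
    induction y using hf.inductionOn with
    | zero => exact ⟨0, map_zero g⟩
    | tmul x => exact ⟨1 ⊗ₜ x, by rw [hg, one_smul]⟩
    | smul t y hy =>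
      obtain ⟨a, rfl⟩ := hy
      obtain ⟨w, rfl⟩ := hθ t
      exact ⟨w • a, g.map_smul w a⟩
    | add y y' hy hy' =>
      obtain ⟨a, rfl⟩ := hy
      obtain ⟨b, rfl⟩ := hy'
      exact ⟨a + b, map_add g a b⟩
  obtain ⟨p, ψ, hψ, hfp⟩ := h₀
  have hker' : (LinearMap.ker g).FG := by
    haveI : Module.Finite S N := by
      obtain ⟨n, φ, hφ, hN⟩ := h
      letI : Algebra (MvPolynomial (Fin n) R) S := φ.toRingHom.toAlgebra
      letI : Module (MvPolynomial (Fin n) R) N := Module.compHom N φ.toRingHom
      haveI : IsScalarTower (MvPolynomial (Fin n) R) S N :=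
        IsScalarTower.of_algebraMap_smul fun _ _ => rfl
      haveI : Module.FinitePresentation (MvPolynomial (Fin n) R) N := hN
      exact Module.Finite.of_restrictScalars_finite (MvPolynomial (Fin n) R) S N
    haveI : Module.Finite W N₀ := inferInstance
    let J : Ideal W := RingHom.ker θ.toRingHom
    have e : LinearMap.ker g = J • (⊤ : Submodule W N₀) := by
      refine le_antisymm (fun x hx => ?_) (Submodule.smul_le.mpr fun a ha x _ => ?_)
      · have hgT : ∀ y : N₀, g y = hf.equiv (θ.toLinearMap.rTensor N y) := fun y => by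
          induction y using TensorProduct.induction_on with
          | zero => simp
          | tmul w z =>
            rw [hg, LinearMap.rTensor_tmul, IsBaseChange.equiv_tmul]
            rfl
          | add y y' hy hy' => rw [map_add, hy, hy', map_add, map_add]
        have h0 : θ.toLinearMap.rTensor N x = 0 :=
          hf.equiv.map_eq_zero_iff.mp ((hgT x).symm.trans hx)
        obtain ⟨y, rfl⟩ := (rTensor_exact N
          (show Function.Exact (LinearMap.ker θ.toLinearMap).subtype θ.toLinearMap from
            LinearMap.exact_subtype_ker_map _) hθ x).mp h0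
        clear hx h0
        induction y using TensorProduct.induction_on with
        | zero => simp
        | tmul w z =>
          rw [LinearMap.rTensor_tmul, show ((LinearMap.ker θ.toLinearMap).subtype w) ⊗ₜ[S] z =
            (w.1 : W) • ((1 : W) ⊗ₜ[S] z) from by
              rw [TensorProduct.smul_tmul', smul_eq_mul, mul_one]; rfl]
          exact Submodule.smul_mem_smul (show w.1 ∈ J from w.2) trivial
        | add y y' hy hy' => rw [map_add]; exact add_mem hy hy'
      · rw [LinearMap.mem_ker, g.map_smul]
        change θ a • g x = 0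
        rw [show θ a = 0 from ha, zero_smul]
    rw [e]
    exact Submodule.FG.smul hker Module.Finite.fg_top
  obtain ⟨p', ψ', hψ', hfp'⟩ := rel_of_surjective_fg g hgsurj hker' ⟨p, ψ, hψ, hfp⟩
  exact rel_of_fpOver ((θ.restrictScalars R).comp ψ') (hθ.comp hψ') hfp'

/-- Relative finite presentation through a finite algebra. -/
theorem rel_finite_iff {T M : Type u} [CommRing T] [Algebra S T] [Algebra R T] [IsScalarTower R S T]
    [Module.Finite S T] [Algebra.FiniteType R S] [AddCommGroup M] [Module T M] [Module S M]
    [IsScalarTower S T M] :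
    FlatCA.RelFinitePresentation R T M ↔ FlatCA.RelFinitePresentation R S M := by
  obtain ⟨n, φ, hφ⟩ := Algebra.FiniteType.iff_quotient_mvPolynomial''.mp ‹Algebra.FiniteType R S›
  let P := MvPolynomial (Fin n) R
  letI : Algebra P S := φ.toRingHom.toAlgebra
  letI : Algebra P T := ((algebraMap S T).comp φ.toRingHom).toAlgebra
  haveI : IsScalarTower P S T := IsScalarTower.of_algebraMap_eq fun _ => rfl
  haveI : Module.Finite P S := Module.Finite.of_surjective (Algebra.linearMap P S) hφ
  haveI : Module.Finite P T := Module.Finite.trans S T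
  haveI : IsScalarTower R P T := IsScalarTower.of_algebraMap_eq fun r => by
    rw [IsScalarTower.algebraMap_apply R S T]
    exact congrArg _ (φ.commutes r).symm
  obtain ⟨Q, _, _, _, _, _, θ, hθ⟩ := Module.Finite.exists_free_surjective P T
  haveI : Module.FinitePresentation P Q := Module.finitePresentation_of_projective P Q
  letI : Algebra R Q := ((algebraMap P Q).comp (algebraMap R P)).toAlgebra
  haveI : IsScalarTower R P Q := IsScalarTower.of_algebraMap_eq fun _ => rfl
  haveI : Algebra.FinitePresentation R Q := Algebra.FinitePresentation.trans R P Q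
  letI : Module P M := Module.compHom M φ.toRingHom
  haveI : IsScalarTower P S M := IsScalarTower.of_algebraMap_smul fun _ _ => rfl
  letI : Module Q M := Module.compHom M (θ.restrictScalars R).toRingHom
  haveI : @IsScalarTower P Q M Algebra.toSMul _ _ := IsScalarTower.of_algebraMap_smul fun (p : P) (x : M) => by
    change θ (algebraMap P Q p) • x = φ p • x
    rw [θ.commutes]
    exact algebraMap_smul T (φ p) x
  constructor
  · intro h
    haveI : Module.FinitePresentation Q M := fpOver_of_rel (α := θ.restrictScalars R) hθ h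
    exact rel_of_fpOver φ hφ (Module.FinitePresentation.trans P M Q)
  · intro h
    haveI : Module.FinitePresentation P M := fpOver_of_rel (α := φ) hφ h
    exact rel_of_fpOver (θ.restrictScalars R) hθ (fp_of_finiteType (P := P) (Q := Q))

end Groth.Agent.FlatnB94
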