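import Groth.Agent.FlatnB94.Ring
import Groth.Agent.FlatMor68.LocFree
import Mathlib.AlgebraicGeometry.Morphisms.FinitePresentation
import Mathlib.AlgebraicGeometry.Morphisms.FiniteType

/-!
# Modules finitely presented relative to a base: affine locality
-/

set_option autoImplicit false
set_option backward.isDefEq.respectTransparency.types false
set_option linter.style.haveILetI false

noncomputable section

universe u

open CategoryTheory Limits AlgebraicGeometry TopologicalSpace Opposite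

namespace Groth.Agent.FlatnB94

open Groth.Agent.QC70 Groth.Agent.FlatMor68.LocFree

variable {X S : Scheme.{u}}

/-- Relative finite presentation of the sections over a pair of opens. -/
def RelOn (f : X ⟶ S) (F : X.Modules) (U : X.Opens) (V : S.Opens) (h : U ≤ f ⁻¹ᵁ V) : Prop :=
  letI := (f.appLE V U h).hom.toAlgebra
  FlatCA.RelFinitePresentation Γ(S, V) Γ(X, U) Γ(F, U)

theorem relFPOn_iff (f : X ⟶ S) (F : X.Modules) (U : X.affineOpens) (V : S.affineOpens)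
    (h : (U : X.Opens) ≤ f ⁻¹ᵁ (V : S.Opens)) :
    Flatn.RelFPOn f F U V h ↔ RelOn f F U V h :=
  Iff.rfl

variable (f : X ⟶ S) (F : X.Modules)

theorem relOn_basicOpen [F.IsQuasicoherent] {U : X.Opens} {V : S.Opens} (hU : IsAffineOpen U)
    (h : U ≤ f ⁻¹ᵁ V) (g : Γ(X, U)) {U' : X.Opens} (e : U' = X.basicOpen g)
    (hR : RelOn f F U V h) : RelOn f F U' V ((e.trans_le (X.basicOpen_le g)).trans h) := by
  subst e
  letI := basicModule F g
  letI : Algebra Γ(S, V) Γ(X, U) := (f.appLE V U h).hom.toAlgebra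
  letI : Algebra Γ(S, V) Γ(X, X.basicOpen g) :=
    (f.appLE V (X.basicOpen g) ((X.basicOpen_le g).trans h)).hom.toAlgebra
  letI : Algebra Γ(X, U) Γ(X, X.basicOpen g) :=
    (X.presheaf.map (homOfLE (X.basicOpen_le g)).op).hom.toAlgebra
  haveI : IsScalarTower Γ(X, U) Γ(X, X.basicOpen g) Γ(F, X.basicOpen g) :=
    IsScalarTower.of_algebraMap_smul fun _ _ => rfl
  haveI : IsScalarTower Γ(S, V) Γ(X, U) Γ(X, X.basicOpen g) :=
    IsScalarTower.of_algebraMap_eq' <| by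
      rw [RingHom.algebraMap_toAlgebra, RingHom.algebraMap_toAlgebra, RingHom.algebraMap_toAlgebra,
        ← CommRingCat.hom_comp, Scheme.Hom.appLE_map]
  haveI : IsLocalization.Away g Γ(X, X.basicOpen g) := hU.isLocalization_basicOpen g
  haveI : IsLocalizedModule (Submonoid.powers g) (resLinear F g) :=
    isLocalizedModule_res F (isLocAt_of_isQuasicoherent F hU) g
  exact rel_localization g (resLinear F g) hR

theorem relOn_target_iff [LocallyOfFiniteType f] {U : X.Opens} {V V' : S.Opens}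
    (hU : IsAffineOpen U) (hV : IsAffineOpen V) (h : U ≤ f ⁻¹ᵁ V') (k : Γ(S, V))
    (e : V' = S.basicOpen k) :
    RelOn f F U V (h.trans ((Opens.map f.base).map (homOfLE (e.trans_le (S.basicOpen_le k)))).le) ↔
      RelOn f F U V' h := by
  subst e
  have h' : U ≤ f ⁻¹ᵁ V := h.trans ((Opens.map f.base).map (homOfLE (S.basicOpen_le k))).le
  letI : Algebra Γ(S, V) Γ(X, U) := (f.appLE V U h').hom.toAlgebra
  letI : Algebra Γ(S, V) Γ(S, S.basicOpen k) :=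
    (S.presheaf.map (homOfLE (S.basicOpen_le k)).op).hom.toAlgebra
  letI : Algebra Γ(S, S.basicOpen k) Γ(X, U) := (f.appLE (S.basicOpen k) U h).hom.toAlgebra
  haveI : IsScalarTower Γ(S, V) Γ(S, S.basicOpen k) Γ(X, U) :=
    IsScalarTower.of_algebraMap_eq' <| by
      rw [RingHom.algebraMap_toAlgebra, RingHom.algebraMap_toAlgebra, RingHom.algebraMap_toAlgebra,
        ← CommRingCat.hom_comp, Scheme.Hom.map_appLE]
  haveI : IsLocalization.Away k Γ(S, S.basicOpen k) := hV.isLocalization_basicOpen k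
  haveI : Algebra.FinitePresentation Γ(S, V) Γ(S, S.basicOpen k) :=
    IsLocalization.Away.finitePresentation k
  haveI : Algebra.FiniteType Γ(S, V) Γ(X, U) := f.finiteType_appLE hV hU h'
  exact rel_base_iff

/-- The property passes from pairs around every point to an arbitrary pair of affine opens. -/
theorem relOn_of_forall [LocallyOfFiniteType f] [F.IsQuasicoherent] {U : X.Opens} {V : S.Opens}
    (hU : IsAffineOpen U) (hV : IsAffineOpen V) (h : U ≤ f ⁻¹ᵁ V)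
    (H : ∀ x ∈ U, ∃ (U₁ : X.Opens) (V₁ : S.Opens) (h₁ : U₁ ≤ f ⁻¹ᵁ V₁),
      IsAffineOpen U₁ ∧ IsAffineOpen V₁ ∧ x ∈ U₁ ∧ RelOn f F U₁ V₁ h₁) :
    RelOn f F U V h := by
  let s : Set Γ(X, U) :=
    {g | RelOn f F (X.basicOpen g) V ((X.basicOpen_le g).trans h)}
  have hs : Ideal.span s = ⊤ := by
    rw [← hU.self_le_iSup_basicOpen_iff]
    intro x hx
    obtain ⟨U₁, V₁, h₁, hU₁, hV₁, hxU₁, hR⟩ := H x hx
    obtain ⟨k, k₁, hk, hxk⟩ := exists_basicOpen_le_affine_inter hV hV₁ (f x) ⟨h hx, h₁ hxU₁⟩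
    obtain ⟨g₀, hg₀W, hxg₀⟩ :=
      hU.exists_basicOpen_le (V := U ⊓ f ⁻¹ᵁ S.basicOpen k) ⟨x, ⟨hx, hxk⟩⟩ hx
    obtain ⟨a, b, hab, hxa⟩ :=
      exists_basicOpen_le_affine_inter hU₁ (hU.basicOpen g₀) x ⟨hxU₁, hxg₀⟩
    obtain ⟨g, hg⟩ := hU.basicOpen_basicOpen_is_basicOpen g₀ b
    have hga : X.basicOpen g = X.basicOpen a := hg.trans hab.symm
    have hgk : X.basicOpen g ≤ f ⁻¹ᵁ S.basicOpen k :=
      (hg.trans_le (X.basicOpen_le b)).trans (hg₀W.trans inf_le_right)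
    have hR₁ : RelOn f F (X.basicOpen g) V₁ _ := relOn_basicOpen f F hU₁ h₁ a hga hR
    have hR₂ : RelOn f F (X.basicOpen g) (S.basicOpen k) hgk :=
      (relOn_target_iff f F (hU.basicOpen g) hV₁ hgk k₁ hk).mp hR₁
    refine Opens.mem_iSup.mpr ⟨⟨g, ?_⟩, hga.ge hxa⟩
    exact (relOn_target_iff f F (hU.basicOpen g) hV hgk k rfl).mpr hR₂
  letI : Algebra Γ(S, V) Γ(X, U) := (f.appLE V U h).hom.toAlgebra
  haveI : Algebra.FiniteType Γ(S, V) Γ(X, U) := f.finiteType_appLE hV hU h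
  letI (g : s) : Algebra Γ(S, V) Γ(X, X.basicOpen g.1) :=
    (f.appLE V (X.basicOpen g.1) ((X.basicOpen_le g.1).trans h)).hom.toAlgebra
  letI (g : s) : Algebra Γ(X, U) Γ(X, X.basicOpen g.1) :=
    (X.presheaf.map (homOfLE (X.basicOpen_le g.1)).op).hom.toAlgebra
  letI (g : s) : Module Γ(X, U) Γ(F, X.basicOpen g.1) := basicModule F g.1
  haveI (g : s) : IsScalarTower Γ(S, V) Γ(X, U) Γ(X, X.basicOpen g.1) :=
    IsScalarTower.of_algebraMap_eq' <| by
      rw [RingHom.algebraMap_toAlgebra, RingHom.algebraMap_toAlgebra, RingHom.algebraMap_toAlgebra,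
        ← CommRingCat.hom_comp, Scheme.Hom.appLE_map]
  haveI (g : s) : IsScalarTower Γ(X, U) Γ(X, X.basicOpen g.1) Γ(F, X.basicOpen g.1) :=
    IsScalarTower.of_algebraMap_smul fun _ _ => rfl
  haveI (g : s) : IsLocalization.Away g.1 Γ(X, X.basicOpen g.1) := hU.isLocalization_basicOpen g.1
  haveI (g : s) : IsLocalizedModule (Submonoid.powers g.1) (resLinear F g.1) :=
    isLocalizedModule_res F (isLocAt_of_isQuasicoherent F hU) g.1
  exact rel_of_span s hs (fun g => resLinear F g.1) (fun g => g.2)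

/-- A cover witnessing relative finite presentation gives pairs around every point. -/
theorem exists_pair (hF : Flatn.IsRelFP f F) (x : X) :
    ∃ (U₁ : X.Opens) (V₁ : S.Opens) (h₁ : U₁ ≤ f ⁻¹ᵁ V₁),
      IsAffineOpen U₁ ∧ IsAffineOpen V₁ ∧ x ∈ U₁ ∧ RelOn f F U₁ V₁ h₁ := by
  obtain ⟨𝒱, h𝒱, H⟩ := hF
  have hfx : f x ∈ (⊤ : S.Opens) := trivial
  rw [← h𝒱] at hfx
  simp only [Opens.mem_iSup] at hfx
  obtain ⟨V, hV, hxV⟩ := hfx
  obtain ⟨𝒰, h𝒰, hU⟩ := H V hV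
  have hxU : x ∈ ⨆ U ∈ 𝒰, (U : X.Opens) := h𝒰 ▸ hxV
  simp only [Opens.mem_iSup] at hxU
  obtain ⟨U, hU', hxU⟩ := hxU
  have hle : (U : X.Opens) ≤ f ⁻¹ᵁ (V : S.Opens) :=
    h𝒰 ▸ le_iSup₂ (f := fun (U : X.affineOpens) (_ : U ∈ 𝒰) => (U : X.Opens)) U hU'
  exact ⟨U, V, hle, U.2, V.2, hxU, hU U hU' hle⟩

theorem relOn_of_isRelFP [LocallyOfFiniteType f] [F.IsQuasicoherent] (hF : Flatn.IsRelFP f F)
    {U : X.Opens} {V : S.Opens} (hU : IsAffineOpen U) (hV : IsAffineOpen V) (h : U ≤ f ⁻¹ᵁ V) :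
    RelOn f F U V h :=
  relOn_of_forall f F hU hV h fun x _ => exists_pair f F hF x

theorem isRelFP_of_relOn
    (H : ∀ (U : X.Opens) (V : S.Opens) (h : U ≤ f ⁻¹ᵁ V),
      IsAffineOpen U → IsAffineOpen V → RelOn f F U V h) : Flatn.IsRelFP f F := by
  refine ⟨Set.univ, top_le_iff.mp fun y _ => ?_, fun V _ =>
    ⟨{U | (U : X.Opens) ≤ f ⁻¹ᵁ (V : S.Opens)}, le_antisymm (iSup₂_le fun U hU => hU) fun x hx => ?_,
      fun U _ h => H U V h U.2 V.2⟩⟩
  · obtain ⟨_, ⟨V, hV, rfl⟩, hyV, -⟩ :=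
      S.isBasis_affineOpens.exists_subset_of_mem_open (Set.mem_univ y) isOpen_univ
    exact (le_iSup₂_of_le (f := fun (V : S.affineOpens) (_ : V ∈ Set.univ) => (V : S.Opens))
      ⟨V, hV⟩ (Set.mem_univ _) le_rfl) hyV
  · obtain ⟨_, ⟨U, hU, rfl⟩, hxU, hUV⟩ :=
      X.isBasis_affineOpens.exists_subset_of_mem_open hx (f ⁻¹ᵁ (V : S.Opens)).2
    exact (le_iSup₂_of_le (f := fun (U : X.affineOpens) (_ : U ∈ {U : X.affineOpens |
        (U : X.Opens) ≤ f ⁻¹ᵁ (V : S.Opens)}) => (U : X.Opens))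
      ⟨U, hU⟩ hUV le_rfl) hxU

theorem isRelFP_of_forall [LocallyOfFiniteType f] [F.IsQuasicoherent]
    (H : ∀ x : X, ∃ (U₁ : X.Opens) (V₁ : S.Opens) (h₁ : U₁ ≤ f ⁻¹ᵁ V₁),
      IsAffineOpen U₁ ∧ IsAffineOpen V₁ ∧ x ∈ U₁ ∧ RelOn f F U₁ V₁ h₁) :
    Flatn.IsRelFP f F :=
  isRelFP_of_relOn f F fun _ _ h hU hV => relOn_of_forall f F hU hV h fun x _ => H x

/-- Relative finite presentation, one pair at a time along a given cover. -/
theorem isRelFP_imp {F' : X.Modules} (hF : Flatn.IsRelFP f F)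
    (H : ∀ (U : X.Opens) (V : S.Opens) (h : U ≤ f ⁻¹ᵁ V),
      IsAffineOpen U → IsAffineOpen V → RelOn f F U V h → RelOn f F' U V h) :
    Flatn.IsRelFP f F' := by
  obtain ⟨𝒱, h𝒱, hc⟩ := hF
  refine ⟨𝒱, h𝒱, fun V hV => ?_⟩
  obtain ⟨𝒰, h𝒰, hU⟩ := hc V hV
  exact ⟨𝒰, h𝒰, fun U hU' h => H U V h U.2 V.2 (hU U hU' h)⟩

end Groth.Agent.FlatnB94
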